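import Cfsg.Agent.Lib.OddChar.FrobeniusFixed

/-!
A Frobenius group `U E`, `E` of prime order, acting on an elementary abelian `r`-group without fixed
points of `U` and with at most `r` fixed points of `E`: the kernel `U` acts as an abelian group.

The proof is elementary: the dimension is the prime `|E|`, so either the module is a sum of
invariant lines or a central element of `U` generates the module cyclically.
-/

set_option autoImplicit false
set_option linter.unusedSectionVars false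

namespace CfsgLib.OddLocal.PrimeAction

open Subgroup CfsgLib.OddChar.FrobFix

universe u v

section Translates

variable {V : Type v} [CommGroup V] [Finite V]

/-- Invariance under a set of automorphisms. -/
def Inv (Φ : Set (MulAut V)) (W : Subgroup V) : Prop := ∀ f ∈ Φ, ∀ w ∈ W, f w ∈ W

theorem inv_iSup {ι : Sort*} {Φ : Set (MulAut V)} {W : ι → Subgroup V} (h : ∀ i, Inv Φ (W i)) :
    Inv Φ (⨆ i, W i) := by
  intro f hf
  have hle : ⨆ i, W i ≤ (⨆ i, W i).comap f.toMonoidHom :=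
    iSup_le fun i w hw => mem_comap.2 (le_iSup W i (h i f hf w hw))
  exact fun w hw => hle hw

theorem inv_sup {Φ : Set (MulAut V)} {A B : Subgroup V} (hA : Inv Φ A) (hB : Inv Φ B) :
    Inv Φ (A ⊔ B) := by
  intro f hf
  have hle : A ⊔ B ≤ (A ⊔ B).comap f.toMonoidHom :=
    sup_le (fun w hw => mem_comap.2 (mem_sup_left (hA f hf w hw)))
      fun w hw => mem_comap.2 (mem_sup_right (hB f hf w hw))
  exact fun w hw => hle hw

/-- A group spanned by simple invariant subgroups of order `m` has order a power of `m`. -/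
theorem card_eq_pow_of_simples {ι : Sort*} {Φ : Set (MulAut V)} {m : ℕ} (T : ι → Subgroup V)
    (hT : ∀ i, Inv Φ (T i)) (hm : ∀ i, Nat.card (T i) = m)
    (hs : ∀ i, ∀ N ≤ T i, Inv Φ N → N = ⊥ ∨ N = T i) (htop : ⨆ i, T i = ⊤) :
    ∃ k, Nat.card V = m ^ k := by
  obtain ⟨S, -, ⟨⟨hS, k, hk⟩, hmax⟩⟩ := Finite.exists_le_maximal
    (p := fun S : Subgroup V => Inv Φ S ∧ ∃ k, Nat.card S = m ^ k) (a := ⊥)
    ⟨fun f _ w hw => by rw [mem_bot.1 hw, map_one]; exact one_mem _, 0, by simp⟩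
  refine ⟨k, ?_⟩
  suffices hle : ∀ i, T i ≤ S by
    have hST : S = ⊤ := top_le_iff.1 (htop.ge.trans (iSup_le hle))
    rw [← hk, hST, card_top]
  intro i
  rcases hs i (S ⊓ T i) inf_le_right (fun f hf w hw => ⟨hS f hf w hw.1, hT i f hf w hw.2⟩) with h | h
  · have hc : Nat.card ↥(S ⊔ T i) = m ^ (k + 1) := by
      rw [pow_succ, ← hk, ← hm i]
      exact (Nat.card_congr (Equiv.ofBijective
        (fun q : S × T i => (⟨(q.1 : V) * q.2, mul_mem_sup q.1.2 q.2.2⟩ : ↥(S ⊔ T i)))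
        ⟨fun q q' e => Subgroup.mul_injective_of_disjoint (disjoint_iff.2 h) (congrArg Subtype.val e),
          fun z => by
            obtain ⟨a, ha, b, hb, e⟩ := mem_sup.1 z.2
            exact ⟨(⟨a, ha⟩, ⟨b, hb⟩), Subtype.ext e⟩⟩)).symm.trans (Nat.card_prod _ _)
    exact le_sup_right.trans (hmax ⟨inv_sup hS (hT i), k + 1, hc⟩ le_sup_left)
  · exact h ▸ inf_le_left

/-- If `Γ` normalises `Φ`, leaves no proper subgroup invariant and `|V|` is `r ^ p`, then either `V`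
has no proper `Φ`-invariant subgroup or it is spanned by translates of a `Φ`-invariant line. -/
theorem lines_or_irreducible {r p : ℕ} (hr : r.Prime) (hp : p.Prime) (hcard : Nat.card V = r ^ p)
    {Γ : Subgroup (MulAut V)} {Φ : Set (MulAut V)} (hnorm : ∀ g ∈ Γ, ∀ f ∈ Φ, g⁻¹ * f * g ∈ Φ)
    (hirr : ∀ W : Subgroup V, Inv (Γ : Set (MulAut V)) W → W ≠ ⊥ → W = ⊤) :
    (∀ W : Subgroup V, Inv Φ W → W ≠ ⊥ → W = ⊤) ∨
      ∃ T : Subgroup V, Inv Φ T ∧ Nat.card T = r ∧ (∀ g : Γ, Inv Φ (T.map (g : MulAut V).toMonoidHom)) ∧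
        ⨆ g : Γ, T.map (g : MulAut V).toMonoidHom = ⊤ := by
  by_cases hex : ∀ W : Subgroup V, Inv Φ W → W ≠ ⊥ → W = ⊤
  · exact Or.inl hex
  push Not at hex
  obtain ⟨W, hW, hW1, hWtop⟩ := hex
  obtain ⟨T, hTW, ⟨hT, hT1⟩, hmin⟩ := (Set.toFinite {T : Subgroup V | Inv Φ T ∧ T ≠ ⊥}).exists_le_minimal
    (show W ∈ {T : Subgroup V | Inv Φ T ∧ T ≠ ⊥} from ⟨hW, hW1⟩)
  refine Or.inr ⟨T, hT, ?_⟩
  have hmap : ∀ g : Γ, Inv Φ (T.map (g : MulAut V).toMonoidHom) := by
    rintro ⟨g, hg⟩ f hf _ ⟨w, hw, rfl⟩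
    refine ⟨(g⁻¹ * f * g) w, hT _ (hnorm g hg f hf) w hw, ?_⟩
    show g ((g⁻¹ * f * g) w) = f (g w)
    simp
  have hsimple : ∀ g : Γ, ∀ N ≤ T.map (g : MulAut V).toMonoidHom, Inv Φ N →
      N = ⊥ ∨ N = T.map (g : MulAut V).toMonoidHom := by
    rintro ⟨g, hg⟩ N hN hNi
    rcases eq_or_ne N ⊥ with h | h
    · exact Or.inl h
    refine Or.inr (le_antisymm hN ?_)
    have hsur : Function.Surjective g.toMonoidHom := g.surjective
    have hle : N.comap g.toMonoidHom ≤ T := fun w hw => by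
      obtain ⟨w', hw', e⟩ := hN (mem_comap.1 hw)
      exact (g.injective e) ▸ hw'
    have hNi' : Inv Φ (N.comap g.toMonoidHom) := fun f hf w hw => by
      have h1 := hnorm g⁻¹ (inv_mem hg) f hf
      rw [inv_inv] at h1
      have h2 := hNi _ h1 _ (mem_comap.1 hw)
      simpa using h2
    have hne : N.comap g.toMonoidHom ≠ ⊥ := fun e => h (by
      rw [← map_comap_eq_self_of_surjective hsur N, e, Subgroup.map_bot])
    rw [← map_comap_eq_self_of_surjective hsur N]
    exact map_mono (hmin ⟨hNi', hne⟩ hle)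
  have htop : ⨆ g : Γ, T.map (g : MulAut V).toMonoidHom = ⊤ := by
    refine hirr _ (fun f hf => ?_) fun e => hT1 ?_
    · have hle : ⨆ g : Γ, T.map (g : MulAut V).toMonoidHom ≤
          (⨆ g : Γ, T.map (g : MulAut V).toMonoidHom).comap f.toMonoidHom := by
        refine iSup_le fun g => ?_
        rintro _ ⟨w, hw, rfl⟩
        exact mem_comap.2 (le_iSup (fun g : Γ => T.map (g : MulAut V).toMonoidHom) (⟨f, hf⟩ * g)
          ⟨w, hw, rfl⟩)
      exact fun w hw => hle hw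
    · rw [eq_bot_iff]
      intro w hw
      have h1 := le_iSup (fun g : Γ => T.map (g : MulAut V).toMonoidHom) 1 ⟨w, hw, rfl⟩
      rw [e] at h1
      simpa using h1
  refine ⟨?_, hmap, htop⟩
  obtain ⟨d, -, hd⟩ := (Nat.dvd_prime_pow hr).1 (hcard ▸ card_subgroup_dvd_card T)
  obtain ⟨k, hk⟩ := card_eq_pow_of_simples _ hmap
    (fun g => ((Subgroup.card_map_of_injective (g : MulAut V).injective).trans hd :
      Nat.card ↥(T.map (g : MulAut V).toMonoidHom) = r ^ d)) hsimple htop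
  rw [hcard, ← pow_mul] at hk
  have hpk := Nat.pow_right_injective hr.two_le hk
  rcases (Nat.dvd_prime hp).1 (Dvd.intro k hpk.symm) with h | h
  · rw [hd, h, pow_one]
  · refine absurd (eq_top_of_le_card T ?_) fun e => hWtop (top_le_iff.1 (e ▸ hTW))
    rw [hcard, hd, h]

/-- Automorphisms commute on an invariant line. -/
theorem commute_on_line {r : ℕ} (hr : r.Prime) {T : Subgroup V} (hT : Nat.card T = r) {f g : MulAut V}
    (hf : ∀ w ∈ T, f w ∈ T) (hg : ∀ w ∈ T, g w ∈ T) {w : V} (hw : w ∈ T) : f (g w) = g (f w) := by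
  have : Fact r.Prime := ⟨hr⟩
  obtain ⟨⟨u, hu⟩, hgen⟩ := (isCyclic_of_prime_card (p := r) hT).exists_generator
  have hz : ∀ x ∈ T, ∃ i : ℤ, u ^ i = x := fun x hx => by
    obtain ⟨i, hi⟩ := mem_zpowers_iff.1 (hgen ⟨x, hx⟩)
    exact ⟨i, congrArg Subtype.val hi⟩
  obtain ⟨i, hi⟩ := hz _ (hf u hu)
  obtain ⟨j, hj⟩ := hz _ (hg u hu)
  obtain ⟨k, rfl⟩ := hz w hw
  rw [map_zpow, map_zpow, map_zpow, map_zpow]
  congr 1
  rw [← hj, ← hi, map_zpow, map_zpow, ← hi, ← hj, ← zpow_mul, ← zpow_mul, mul_comm]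

/-- The automorphisms commuting with one that leaves no proper subgroup invariant commute. -/
theorem commute_of_irreducible {z : MulAut V}
    (h : ∀ W : Subgroup V, Inv {z} W → W ≠ ⊥ → W = ⊤) {a b : MulAut V} (ha : a * z = z * a)
    (hb : b * z = z * b) : a * b = b * a := by
  rcases subsingleton_or_nontrivial V with hV | hV
  · exact MulEquiv.ext fun v => Subsingleton.elim _ _
  obtain ⟨u, hu⟩ := exists_ne (1 : V)
  let Z : V →* V := z.toMonoidHom
  let C : (V →* V) → Prop := fun c => ∀ x, c (z x) = z (c x)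
  let H : Subgroup V :=
    { carrier := {v | ∃ P : V →* V, C P ∧ (∀ c : V →* V, C c → ∀ x, P (c x) = c (P x)) ∧ P u = v}
      one_mem' := ⟨1, fun x => (map_one z).symm, fun c _ x => (map_one c).symm, rfl⟩
      mul_mem' := fun {v w} hv hw => by
        obtain ⟨P, hP, hPc, rfl⟩ := hv
        obtain ⟨P', hP', hPc', rfl⟩ := hw
        exact ⟨P * P', fun x => by simp [hP x, hP' x], fun c hc x => by simp [hPc c hc x, hPc' c hc x],
          rfl⟩
      inv_mem' := fun {v} hv => by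
        obtain ⟨P, hP, hPc, rfl⟩ := hv
        exact ⟨P⁻¹, fun x => by simp [hP x], fun c hc x => by simp [hPc c hc x], rfl⟩ }
  have hH : H = ⊤ := by
    refine h H ?_ fun e => hu (mem_bot.1 (e ▸ (⟨MonoidHom.id V, fun x => rfl, fun c _ x => rfl, rfl⟩ : u ∈ H)))
    intro f hf v hv
    rw [Set.mem_singleton_iff.1 hf]
    obtain ⟨P, hP, hPc, rfl⟩ := hv
    refine ⟨Z.comp P, fun x => ?_, fun c hc x => ?_, rfl⟩
    · show z (P (z x)) = z (z (P x)); rw [hP]
    · show z (P (c x)) = c (z (P x)); rw [hPc c hc, ← hc]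
  have hC : ∀ {c : MulAut V}, c * z = z * c → C c.toMonoidHom := fun hc x => DFunLike.congr_fun hc x
  obtain ⟨P, hP, hPc, hPu⟩ := (hH ▸ mem_top (b u) : b u ∈ H)
  obtain ⟨P', hP', hPc', hPu'⟩ := (hH ▸ mem_top (a u) : a u ∈ H)
  have hu' : a (b u) = b (a u) := by
    calc a (b u) = a (P u) := by rw [hPu]
      _ = P (a u) := (hPc _ (hC ha) u).symm
      _ = P (P' u) := by rw [hPu']
      _ = P' (P u) := (hPc' P hP u).symm
      _ = P' (b u) := by rw [hPu]
      _ = b (P' u) := hPc' _ (hC hb) u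
      _ = b (a u) := by rw [hPu']
  refine MulEquiv.ext fun v => ?_
  obtain ⟨R, -, hR, rfl⟩ := (hH ▸ mem_top v : v ∈ H)
  show a (b (R u)) = b (a (R u))
  have e1 : b (R u) = R (b u) := (hR _ (hC hb) u).symm
  have e2 : a (R u) = R (a u) := (hR _ (hC ha) u).symm
  have e3 : a (R (b u)) = R (a (b u)) := (hR _ (hC ha) (b u)).symm
  have e4 : b (R (a u)) = R (b (a u)) := (hR _ (hC hb) (a u)).symm
  rw [e1, e2, e3, e4, hu']

end Translates

/-- The kernel acts as an abelian group. -/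
theorem comm_of_cyclic_fixed {S : Type u} [Group S] [Finite S] {U E : Subgroup S} (h : Frob U E)
    (hE : (Nat.card E).Prime) {V : Type v} [CommGroup V] [Finite V] (φ : ↥(U ⊔ E) →* MulAut V) {r : ℕ}
    (hr : r.Prime) (hexp : ∀ v : V, v ^ r = 1) (hcop : r.Coprime (Nat.card ↥(U ⊔ E)))
    (hU : fixG φ (U.subgroupOf (U ⊔ E)) = ⊥) (hfix : Nat.card (fixG φ (E.subgroupOf (U ⊔ E))) ≤ r)
    {a b : ↥(U ⊔ E)} (ha : (a : S) ∈ U) (hb : (b : S) ∈ U) : φ a * φ b = φ b * φ a := by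
  have : Fact r.Prime := ⟨hr⟩
  rcases subsingleton_or_nontrivial V with hV | hV
  · exact MulEquiv.ext fun v => Subsingleton.elim _ _
  have hVp : IsPGroup r V := fun v => ⟨1, by rw [pow_one]; exact hexp v⟩
  have hcopV : Nat.Coprime (Nat.card V) (Nat.card ↥(U ⊔ E)) := by
    obtain ⟨n, hn⟩ := hVp.exists_card_eq
    rw [hn]; exact hcop.pow_left n
  -- every invariant subgroup has order `r ^ p`
  have hinv : ∀ W : Subgroup V, Inv (φ.range : Set (MulAut V)) W → W ≠ ⊥ →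
      Nat.card W = r ^ Nat.card E := by
    intro W hW hW1
    have hN : ∀ s, ∀ w ∈ W, φ s w ∈ W := fun s w hw => hW _ ⟨s, rfl⟩ w hw
    have h1 := card_formula h (Nat.card W) W (resAut φ W hN) rfl inferInstance
      (hcopV.coprime_dvd_left (card_subgroup_dvd_card W))
    have hUW : fixG (resAut φ W hN) (U.subgroupOf (U ⊔ E)) = ⊥ := by
      rw [eq_bot_iff]
      intro w hw
      have hm : (w : V) ∈ fixG φ (U.subgroupOf (U ⊔ E)) := fun s hs => congrArg Subtype.val (hw s hs)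
      rw [hU, mem_bot] at hm
      exact mem_bot.2 (Subtype.ext hm)
    have hTW : fixG (resAut φ W hN) ⊤ = ⊥ :=
      le_bot_iff.1 (hUW ▸ fun w hw s _ => hw s (mem_top s))
    rw [hTW, hUW, card_bot, one_pow, one_mul, mul_one] at h1
    set e := Nat.card (fixG (resAut φ W hN) (E.subgroupOf (U ⊔ E)))
    have hle : e ≤ r := by
      refine le_trans (Nat.card_le_card_of_injective
        (fun w : fixG (resAut φ W hN) (E.subgroupOf (U ⊔ E)) =>
          (⟨((w : W) : V), fun s hs => congrArg Subtype.val (w.2 s hs)⟩ :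
            fixG φ (E.subgroupOf (U ⊔ E))))
        fun w w' e => Subtype.ext (Subtype.ext (Subtype.mk.inj e))) hfix
    have hne : e ≠ 1 := fun e1 => hW1 (Subgroup.card_eq_one.1 (by rw [h1, e1, one_pow]))
    obtain ⟨j, hj⟩ := ((hVp.to_subgroup W).to_subgroup
      (fixG (resAut φ W hN) (E.subgroupOf (U ⊔ E)))).exists_card_eq
    have hj' : r ≤ e := by
      rw [show e = r ^ j from hj] at hne ⊢
      exact Nat.le_self_pow (fun e0 => hne (by rw [e0, pow_zero])) r
    rw [h1, le_antisymm hle hj']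
  have hcard : Nat.card V = r ^ Nat.card E := by
    rw [← hinv ⊤ (fun f _ w _ => mem_top _) top_ne_bot, card_top]
  have hirr : ∀ W : Subgroup V, Inv (φ.range : Set (MulAut V)) W → W ≠ ⊥ → W = ⊤ := fun W hW hW1 =>
    eq_top_of_le_card W (by rw [hcard, hinv W hW hW1])
  set U' := U.subgroupOf (U ⊔ E) with hU'def
  have hU'n : U'.Normal := by
    refine (normal_subgroupOf_iff_le_normalizer le_sup_left).2 (sup_le le_normalizer fun e he => ?_)
    refine mem_normalizer_iff.2 fun x => ⟨fun hx => h.norm e he x hx, fun hx => ?_⟩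
    have := h.norm e⁻¹ (inv_mem he) _ hx
    simpa [mul_assoc] using this
  have hnorm : ∀ g ∈ φ.range, ∀ f ∈ (U'.map φ : Set (MulAut V)), g⁻¹ * f * g ∈ (U'.map φ : Set (MulAut V)) := by
    rintro _ ⟨s, rfl⟩ _ ⟨t, ht, rfl⟩
    exact ⟨s⁻¹ * t * s, by simpa using hU'n.conj_mem t ht s⁻¹, by simp⟩
  have hfab : φ a ∈ U'.map φ ∧ φ b ∈ U'.map φ := ⟨mem_map_of_mem φ ha, mem_map_of_mem φ hb⟩
  rcases lines_or_irreducible hr hE hcard hnorm hirr with hUirr | ⟨T, -, hTc, hTi, htop⟩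
  swap
  · -- invariant lines
    refine MulEquiv.ext fun v => ?_
    have hle : ⨆ g : φ.range, T.map (g : MulAut V).toMonoidHom ≤
        ((φ a * φ b).toMonoidHom).eqLocus (φ b * φ a).toMonoidHom := by
      refine iSup_le fun g w hw => ?_
      exact commute_on_line hr ((Subgroup.card_map_of_injective (g : MulAut V).injective).trans hTc)
        (fun w hw => hTi g _ hfab.1 w hw) (fun w hw => hTi g _ hfab.2 w hw) hw
    exact hle (htop.ge (mem_top v))
  rcases eq_or_ne (U'.map φ) ⊥ with hbot | hne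
  · rw [mem_bot.1 (hbot ▸ hfab.1 : φ a ∈ (⊥ : Subgroup (MulAut V))), one_mul, mul_one]
  -- a nontrivial central element of the image of `U`
  have : Group.IsNilpotent U' := Group.nilpotent_of_mulEquiv (_h := h.nil)
    (subgroupOfEquivOfLe (le_sup_left : U ≤ U ⊔ E)).symm
  have : Group.IsNilpotent ↥(U'.map φ) := Group.nilpotent_of_surjective (φ.subgroupMap U')
    (MonoidHom.subgroupMap_surjective _ _)
  have : Nontrivial ↥(U'.map φ) := (nontrivial_iff_ne_bot _).2 hne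
  have : Nontrivial (center ↥(U'.map φ)) := (nontrivial_iff_ne_bot _).2 (Group.IsNilpotent.center_ne_bot _)
  obtain ⟨⟨⟨z, hzU⟩, hzc⟩, hz1⟩ := exists_ne (1 : center ↥(U'.map φ))
  have hz1' : z ≠ 1 := fun e => hz1 (Subtype.ext (Subtype.ext e))
  have hzcomm : ∀ f ∈ U'.map φ, f * z = z * f := fun f hf =>
    congrArg Subtype.val (mem_center_iff.1 hzc ⟨f, hf⟩)
  have hnorm' : ∀ g ∈ U'.map φ, ∀ f ∈ ({z} : Set (MulAut V)), g⁻¹ * f * g ∈ ({z} : Set (MulAut V)) := by
    intro g hg f hf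
    rw [Set.mem_singleton_iff] at hf ⊢
    rw [hf, mul_assoc, ← hzcomm g hg, inv_mul_cancel_left]
  rcases lines_or_irreducible hr hE hcard hnorm' hUirr with hz | ⟨T, hT, hTc, -, -⟩
  · exact commute_of_irreducible hz (hzcomm _ hfab.1) (hzcomm _ hfab.2)
  -- otherwise `z` is a scalar, hence commutes with `E`
  exfalso
  obtain ⟨⟨u, hu⟩, hgen⟩ := (isCyclic_of_prime_card (p := r) hTc).exists_generator
  obtain ⟨c, hc⟩ := mem_zpowers_iff.1 (hgen ⟨z u, hT z rfl u hu⟩)
  have hzu : z u = u ^ c := (congrArg Subtype.val hc).symm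
  let W : Subgroup V :=
    { carrier := {v | z v = v ^ c}
      one_mem' := by simp
      mul_mem' := fun {x y} hx hy => by
        show z (x * y) = (x * y) ^ c
        rw [map_mul, mul_zpow, show z x = x ^ c from hx, show z y = y ^ c from hy]
      inv_mem' := fun {x} hx => by
        show z x⁻¹ = x⁻¹ ^ c
        rw [map_inv, show z x = x ^ c from hx, inv_zpow] }
  have hWtop : W = ⊤ := hUirr W (fun f hf w hw => by
    show z (f w) = (f w) ^ c
    have := DFunLike.congr_fun (hzcomm f hf) w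
    rw [MulAut.mul_apply, MulAut.mul_apply] at this
    rw [← this, show z w = w ^ c from hw, map_zpow]) fun e => by
    have hu' : u ∈ W := hzu
    rw [e, mem_bot] at hu'
    subst hu'
    have h2 : ∀ x : T, x = 1 := fun x => by
      obtain ⟨i, hi⟩ := mem_zpowers_iff.1 (hgen x)
      rw [← hi]
      exact Subtype.ext (one_zpow i)
    have : Subsingleton T := ⟨fun x y => (h2 x).trans (h2 y).symm⟩
    exact hr.ne_one (hTc.symm.trans Nat.card_unique)
  have hscal : ∀ v, z v = v ^ c := fun v => (hWtop ▸ mem_top v : v ∈ W)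
  obtain ⟨e, he, he1⟩ : ∃ e ∈ E, e ≠ 1 := by
    by_contra hall
    push Not at hall
    exact hE.ne_one (Subgroup.card_eq_one.2 ((eq_bot_iff_forall E).2 hall))
  set e' : ↥(U ⊔ E) := ⟨e, mem_sup_right he⟩
  obtain ⟨w, hw, rfl⟩ := hzU
  let L := U' ⊓ φ.ker
  have hLn : L.Normal := Subgroup.normal_inf_normal _ _
  let g : U' → U' := fun x => ⟨(x : ↥(U ⊔ E))⁻¹ * (e' * x * e'⁻¹),
    mul_mem (inv_mem x.2) (hU'n.conj_mem _ x.2 e')⟩
  have hg : Function.Injective g := fun x y hxy => by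
    have h1 : (x : ↥(U ⊔ E))⁻¹ * (e' * x * e'⁻¹) = (y : ↥(U ⊔ E))⁻¹ * (e' * y * e'⁻¹) :=
      congrArg Subtype.val hxy
    have h2 : e' * ((x : ↥(U ⊔ E)) * (y : ↥(U ⊔ E))⁻¹) = ((x : ↥(U ⊔ E)) * (y : ↥(U ⊔ E))⁻¹) * e' := by
      calc e' * ((x : ↥(U ⊔ E)) * (y : ↥(U ⊔ E))⁻¹)
          = x * ((x : ↥(U ⊔ E))⁻¹ * (e' * x * e'⁻¹)) * (e' * y * e'⁻¹)⁻¹ * e' := by group
        _ = _ := by rw [h1]; group
    have h3 := h.fpf e he he1 _ (U.mul_mem x.2 (U.inv_mem y.2)) (congrArg Subtype.val h2)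
    exact Subtype.ext (Subtype.ext (mul_inv_eq_one.1 h3))
  let gL : L → L := fun x => ⟨(x : ↥(U ⊔ E))⁻¹ * (e' * x * e'⁻¹),
    mul_mem (inv_mem x.2) (hLn.conj_mem _ x.2 e')⟩
  have hgL : Function.Injective gL := fun x y hxy => by
    have := hg (a₁ := ⟨x, x.2.1⟩) (a₂ := ⟨y, y.2.1⟩)
      (Subtype.ext (congrArg (fun z : L => (z : ↥(U ⊔ E))) hxy))
    exact Subtype.ext (congrArg (fun z : U' => (z : ↥(U ⊔ E))) this)
  have hmem : (w : ↥(U ⊔ E))⁻¹ * (e' * w * e'⁻¹) ∈ L := by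
    refine ⟨U'.mul_mem (U'.inv_mem hw) (hU'n.conj_mem _ hw e'), MulEquiv.ext fun v => ?_⟩
    rw [map_mul, map_mul, map_mul, map_inv, map_inv]
    show (φ w)⁻¹ (φ e' (φ w ((φ e')⁻¹ v))) = v
    rw [hscal, map_zpow, MulAut.apply_inv_self, ← hscal, MulAut.inv_apply_self]
  obtain ⟨l, hl⟩ := (Finite.injective_iff_surjective.1 hgL) ⟨_, hmem⟩
  have := hg (a₁ := ⟨l, l.2.1⟩) (a₂ := ⟨w, hw⟩)
    (Subtype.ext (congrArg (fun z : L => (z : ↥(U ⊔ E))) hl))
  exact hz1' ((congrArg φ (congrArg Subtype.val this)).symm.trans l.2.2)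

end CfsgLib.OddLocal.PrimeAction
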